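import Groth.Prelude.Def_KLin
import Groth.Agent.CohBase.Modules
import Groth.Agent.CohBase.AffineVanishing
import Groth.Agent.CohBase.AcyclicShift
import Groth.Agent.CohBase.IdealOfClosed
import Groth.Agent.QCohMod.Category
import Groth.Agent.CohTwo.Glue
import Mathlib.RingTheory.Ideal.AssociatedPrime.Finiteness
import Mathlib.RingTheory.Support

/-! A coherent module which is acyclic on an open subset and extends uniquely from it is supported there. -/

set_option autoImplicit false
set_option linter.style.haveILetI false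

universe u

open CategoryTheory CategoryTheory.Limits AlgebraicGeometry TopologicalSpace Opposite

namespace Groth.QFAcyclic

open Groth.CohBase (abSheaf HVanish)

variable {T : Scheme.{u}} [IsAffine T]

/-- The prime of a point of an affine scheme. -/
noncomputable def pt (z : T) : PrimeSpectrum Γ(T, ⊤) := (isAffineOpen_top T).primeIdealOf ⟨z, trivial⟩

theorem notMem_pt_iff (z : T) (a : Γ(T, ⊤)) : a ∉ (pt z).asIdeal ↔ z ∈ T.basicOpen a := by
  have h := (isAffineOpen_top T).fromSpec_preimage_basicOpen a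
  have h2 := (isAffineOpen_top T).fromSpec_primeIdealOf ⟨z, trivial⟩
  calc a ∉ (pt z).asIdeal ↔ pt z ∈ (isAffineOpen_top T).fromSpec ⁻¹ᵁ T.basicOpen a := by
        rw [h]; rfl
    _ ↔ z ∈ T.basicOpen a := by
        change (isAffineOpen_top T).fromSpec (pt z) ∈ T.basicOpen a ↔ z ∈ T.basicOpen a
        rw [pt, h2]

variable (U : T.Opens)

/-- The functions whose principal open lies in `U`. -/
noncomputable def inIdeal : Ideal Γ(T, ⊤) := ⨅ z : {z : T // z ∉ U}, (pt z.1).asIdeal

theorem mem_inIdeal {a : Γ(T, ⊤)} : a ∈ inIdeal U ↔ T.basicOpen a ≤ U := by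
  simp only [inIdeal, Submodule.mem_iInf, Subtype.forall]
  exact ⟨fun h z hz => not_not.1 fun hn => (notMem_pt_iff z a).2 hz (h z hn),
    fun h z hz => not_not.1 fun hn => hz (h ((notMem_pt_iff z a).1 hn))⟩

variable (M : T.Modules)

/-- Unique extension of global sections from `U` and vanishing of higher cohomology on `U`. -/
structure Good : Prop where
  bij : Function.Bijective (QCohMod.res M (le_top : U ≤ ⊤))
  vanish : ∀ q : ℕ, HVanish (X := T.toTopCat) (abSheaf M) (q + 1) U

/-- A coherent module on an affine Noetherian scheme which is good for `U` is supported in `U`. -/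
theorem Good.notMem_support [IsNoetherianRing Γ(T, ⊤)] : ∀ (M : T.Modules) [M.IsQuasicoherent]
    [Module.Finite Γ(T, ⊤) Γ(M, ⊤)], Good U M → ∀ z ∉ U, pt z ∉ Module.support Γ(T, ⊤) Γ(M, ⊤) := by
  classical
  suffices H : ∀ (I : Ideal Γ(T, ⊤)) (M : T.Modules), M.IsQuasicoherent → Module.Finite Γ(T, ⊤) Γ(M, ⊤) →
      I = Module.annihilator Γ(T, ⊤) Γ(M, ⊤) → Good U M →
      ∀ z ∉ U, pt z ∉ Module.support Γ(T, ⊤) Γ(M, ⊤) from
    fun M h1 h2 h => H _ M h1 h2 rfl h
  intro I
  induction I using IsNoetherian.induction with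
  | _ I ih =>
  intro M hM hfin hI hg z hz
  rcases subsingleton_or_nontrivial Γ(M, ⊤) with hs | hnt
  · rw [Module.support_eq_empty]; exact id
  -- no non-zero section is killed by the ideal of the complement
  have hno : ∀ m : Γ(M, ⊤), (∀ a ∈ inIdeal U, a • m = 0) → m = 0 := fun m hm => by
    refine hg.bij.1 ((Groth.CohTwo.eq_of_local M _ _ fun x hx => ?_).trans (map_zero _).symm)
    obtain ⟨a, ha, hxa⟩ := (isAffineOpen_top T).exists_basicOpen_le (V := U) ⟨x, hx⟩ trivial
    refine ⟨T.basicOpen a, ha, hxa, ?_⟩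
    change QCohMod.res M ha (QCohMod.res M le_top m) = QCohMod.res M ha 0
    rw [QCohMod.res_res, map_zero]
    have hu : IsUnit (QCohMod.resFun T (le_top : T.basicOpen a ≤ ⊤) a) :=
      T.toRingedSpace.isUnit_res_basicOpen a
    refine hu.smul_left_cancel.1 ?_
    rw [← QCohMod.res_smul, hm a ((mem_inIdeal U).2 ha), map_zero, smul_zero]
  -- an element of the ideal regular on the sections
  have hnsub : ∀ p ∈ associatedPrimes Γ(T, ⊤) Γ(M, ⊤), ¬ inIdeal U ≤ p := by
    intro p hp hle
    obtain ⟨hpp, m, hm⟩ := isAssociatedPrime_iff.1 (AssociatedPrimes.mem_iff.1 hp)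
    refine hpp.ne_top ?_
    have h0 : m = 0 := hno m fun a ha => by
      have := hle ha
      rw [hm] at this
      simpa using this
    rw [hm, h0, Ideal.eq_top_iff_one]
    simp
  obtain ⟨a, haI, hareg⟩ : ∃ a ∈ inIdeal U, ∀ m : Γ(M, ⊤), a • m = 0 → m = 0 := by
    by_contra! hcon
    have hfinass := associatedPrimes.finite Γ(T, ⊤) Γ(M, ⊤)
    have hsub : (inIdeal U : Set Γ(T, ⊤)) ⊆ ⋃ p ∈ (↑hfinass.toFinset : Set (Ideal Γ(T, ⊤))), (p : Set Γ(T, ⊤)) := by
      intro a ha
      rw [Set.Finite.coe_toFinset, biUnion_associatedPrimes_eq_zero_divisors]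
      obtain ⟨m, hm, hm0⟩ := hcon a ha
      exact ⟨m, hm0, hm⟩
    obtain ⟨p, hp, hle⟩ := (Ideal.subset_union_prime ⊥ ⊥ fun p hp _ _ =>
      ((Set.Finite.mem_toFinset hfinass).1 hp).isPrime).1 hsub
    exact hnsub p ((Set.Finite.mem_toFinset hfinass).1 hp) hle
  -- the quotient by `a`
  let φ : M ⟶ M := Formal.smulModΓ M a
  have hφ : ∀ (W : T.Opens) (s : Γ(M, W)),
      φ.app W s = QCohMod.resFun T (le_top : W ≤ ⊤) a • s := fun W s => rfl
  have hinjT : Function.Injective (φ.app ⊤) := by
    refine (injective_iff_map_eq_zero _).2 fun s hs => hareg s ?_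
    rwa [hφ, QCohMod.resFun_self] at hs
  let N : T.Modules := cokernel φ
  let c : M ⟶ N := cokernel.π φ
  haveI : N.IsQuasicoherent := inferInstance
  haveI : Mono φ := by
    refine Preadditive.mono_of_kernel_zero ?_
    have : (kernel φ).IsQuasicoherent := inferInstance
    refine Scheme.Modules.hom_ext _ _ fun W => ?_
    ext s
    change (kernel.ι φ).app W s = 0
    refine Groth.CohTwo.eq_of_local M _ _ fun x hx => ?_
    obtain ⟨g, hgW, hxg⟩ := (isAffineOpen_top T).exists_basicOpen_le (V := W) ⟨x, hx⟩ trivial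
    refine ⟨T.basicOpen g, hgW, hxg, ?_⟩
    change QCohMod.res M hgW _ = QCohMod.res M hgW 0
    rw [map_zero, QCohMod.res_app (kernel.ι φ) hgW s]
    set y := (kernel.ι φ).app (T.basicOpen g) (QCohMod.res (kernel φ) hgW s) with hy
    have h0 : φ.app (T.basicOpen g) y = 0 := by
      rw [hy, ← ConcreteCategory.comp_apply, ← Scheme.Modules.Hom.comp_app, kernel.condition]
      rfl
    obtain ⟨n, m, hm⟩ := QCohMod.exists_pow_smul_eq_res M (isAffineOpen_top T) g y
    have h1 : QCohMod.res M (T.basicOpen_le g) (φ.app ⊤ m) = 0 := by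
      rw [QCohMod.res_app, hm, Scheme.Modules.Hom.app_smul, h0, smul_zero]
    obtain ⟨k, hk⟩ := QCohMod.exists_pow_smul_eq_zero M (isAffineOpen_top T) g _ h1
    rw [← Scheme.Modules.Hom.app_smul] at hk
    have h2 : (g ^ k) • m = 0 := hinjT (hk.trans (map_zero _).symm)
    have h3 := congrArg (QCohMod.res M (T.basicOpen_le g)) h2
    rw [map_zero, QCohMod.res_smul, hm, smul_smul, map_pow, ← pow_add] at h3
    have hu : IsUnit (QCohMod.resFun T (T.basicOpen_le g) g) := T.toRingedSpace.isUnit_res_basicOpen g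
    exact (hu.pow _).smul_left_cancel.1 (h3.trans (smul_zero _).symm)
  let S : ShortComplex T.Modules := ShortComplex.mk φ c (cokernel.condition φ)
  have hS : S.ShortExact :=
    { exact := ShortComplex.exact_of_g_is_cokernel _ (cokernelIsCokernel φ) }
  have hA := CohBase.shortExact_toAb hS
  have htopsurj : Function.Surjective (c.app ⊤) :=
    CohBase.sections_surjective (U := (⊤ : T.Opens)) hA
      (CohBase.hVanish_of_isAffineOpen M (isAffineOpen_top T) 0)
  have hUsurj : Function.Surjective (c.app U) :=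
    CohBase.sections_surjective (U := U) hA (hg.vanish 0)
  have hgN : Good U N := by
    refine ⟨⟨(injective_iff_map_eq_zero _).2 fun n hn => ?_, fun n => ?_⟩, fun q => ?_⟩
    · obtain ⟨m, rfl⟩ := htopsurj n
      rw [QCohMod.res_app] at hn
      obtain ⟨y, hy⟩ := QCohMod.exists_app_eq_of_mono_exact hS.exact U (QCohMod.res M le_top m) hn
      obtain ⟨y', rfl⟩ := hg.bij.2 y
      have h : φ.app ⊤ y' = m := hg.bij.1 (by rw [QCohMod.res_app]; exact hy)
      rw [← h, ← ConcreteCategory.comp_apply, ← Scheme.Modules.Hom.comp_app, cokernel.condition]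
      rfl
    · obtain ⟨m, rfl⟩ := hUsurj n
      obtain ⟨m', rfl⟩ := hg.bij.2 m
      exact ⟨c.app ⊤ m', QCohMod.res_app c le_top m'⟩
    · exact CohBase.hVanish_third hA (hg.vanish (q + 1)) (hg.vanish q)
  -- the sections of the quotient
  let cL : Γ(M, ⊤) →ₗ[Γ(T, ⊤)] Γ(N, ⊤) :=
    { toFun := c.app ⊤, map_add' := map_add _, map_smul' := fun r s => c.app_smul r s }
  have hker : LinearMap.ker cL = Ideal.span {a} • (⊤ : Submodule Γ(T, ⊤) Γ(M, ⊤)) := by
    ext m
    rw [Submodule.ideal_span_singleton_smul, Submodule.mem_smul_pointwise_iff_exists]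
    constructor
    · intro hm
      obtain ⟨y, hy⟩ := QCohMod.exists_app_eq_of_mono_exact hS.exact ⊤ m hm
      exact ⟨y, trivial, by rw [← hy]; exact ((hφ ⊤ y).trans (by rw [QCohMod.resFun_self])).symm⟩
    · rintro ⟨y, -, rfl⟩
      change c.app ⊤ (a • y) = 0
      rw [show a • y = φ.app ⊤ y from ((hφ ⊤ y).trans (by rw [QCohMod.resFun_self])).symm,
        ← ConcreteCategory.comp_apply, ← Scheme.Modules.Hom.comp_app, cokernel.condition]
      rfl
  have hfinN : Module.Finite Γ(T, ⊤) Γ(N, ⊤) := Module.Finite.of_surjective cL htopsurj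
  have hle : I ≤ Module.annihilator Γ(T, ⊤) Γ(N, ⊤) := fun r hr =>
    Module.mem_annihilator.2 fun n => by
      obtain ⟨m, rfl⟩ := htopsurj n
      rw [hI, Module.mem_annihilator] at hr
      rw [← c.app_smul, hr m, map_zero]
  have haN : a ∈ Module.annihilator Γ(T, ⊤) Γ(N, ⊤) := Module.mem_annihilator.2 fun n => by
    obtain ⟨m, rfl⟩ := htopsurj n
    change a • cL m = 0
    rw [← map_smul]
    exact LinearMap.mem_ker.1 (show a • m ∈ LinearMap.ker cL from hker ▸
      Submodule.smul_mem_smul (Ideal.mem_span_singleton_self a) trivial)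
  have hlt : I < Module.annihilator Γ(T, ⊤) Γ(N, ⊤) := lt_of_le_of_ne hle fun he => by
    rw [← he, hI, Module.mem_annihilator] at haN
    obtain ⟨m, hm⟩ := exists_ne (0 : Γ(M, ⊤))
    exact hm (hareg m (haN m))
  have hIH := ih _ hlt N inferInstance hfinN rfl hgN z hz
  intro hsupp
  refine hIH ?_
  have e := LinearMap.quotKerEquivOfSurjective cL htopsurj
  rw [← e.support_eq, hker, Module.support_quotient]
  refine ⟨hsupp, (PrimeSpectrum.mem_zeroLocus _ _).2 ?_⟩
  rw [SetLike.coe_subset_coe, Ideal.span_singleton_le_iff_mem]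
  simpa using fun hn => hz ((mem_inIdeal U).1 haI ((notMem_pt_iff z a).1 hn))

end Groth.QFAcyclic
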