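import Groth.Prelude.Def_CohB1
import Groth.Agent.QFAcyclic.Key
import Groth.Agent.LocImm.FiniteFactor
import Groth.Agent.CohBase.RelAmpleVanish
import Groth.Agent.QCohMod.FiniteType

/-! A quasi-finite morphism with a fully supported acyclic coherent module with coherent image is finite. -/

set_option autoImplicit false
set_option linter.style.haveILetI false

universe u

open CategoryTheory CategoryTheory.Limits AlgebraicGeometry TopologicalSpace Opposite

namespace Groth.QFAcyclic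

open Groth.CohBase (abSheaf HVanish toAbF)

theorem hVanish_of_iso {X : Scheme.{u}} {M N : X.Modules} (e : M ≅ N) (n : ℕ) (W : X.Opens)
    (h : HVanish (X := X.toTopCat) (abSheaf M) n W) : HVanish (X := X.toTopCat) (abSheaf N) n W :=
  ((((CategoryTheory.Sheaf.cohomologyPresheafFunctor (Opens.grothendieckTopology X.toTopCat) n).mapIso
    ((toAbF _).mapIso e)).app (op W)).addCommGroupIsoToAddEquiv.symm.toEquiv).subsingleton

theorem bijective_res_of_eq {X : Scheme.{u}} (M : X.Modules) {V W : X.Opens} (h : W ≤ V) (e : W = V) :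
    Function.Bijective (QCohMod.res M h) := by
  subst e
  have : (QCohMod.res M h : Γ(M, W) → Γ(M, W)) = id := funext fun x => QCohMod.res_self M x
  rw [this]
  exact Function.bijective_id

variable {V X : Scheme.{u}} [AlgebraicGeometry.IsNoetherian V] [AlgebraicGeometry.IsNoetherian X] (f : V ⟶ X)
  [LocallyQuasiFinite f] [LocallyOfFiniteType f] [QuasiCompact f] [IsSeparated f]
  [HasInjectiveResolutions V.Modules]

theorem isFinite_of_acyclic (K : V.Modules) (hK : Coh.IsCoh K) (hsupp : CohB1.support K = Set.univ)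
    (hpush : Coh.IsCoh ((Coh.push f).obj K))
    (hvan : ∀ q : ℕ, 0 < q → IsZero ((Coh.Rpush f q).obj K)) : IsFinite f := by
  obtain ⟨T, j, π, hj, hπ, hjπ⟩ := Groth.LocImmersion.exists_isOpenImmersion_comp_isFinite f
  haveI := hj
  haveI := hπ
  haveI : K.IsQuasicoherent := hK.1
  haveI : QuasiCompact (j ≫ π) := hjπ.symm ▸ inferInstance
  haveI : QuasiCompact j := QuasiCompact.of_comp j π
  haveI : QuasiSeparated j := inferInstance
  haveI : IsLocallyNoetherian T := LocallyOfFiniteType.isLocallyNoetherian π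
  suffices hc : IsClosed (Set.range j.base) by
    haveI : IsClosedImmersion j := IsClosedImmersion.of_isPreimmersion j hc
    rw [← hjπ]
    infer_instance
  refine isClosed_of_closure_subset fun z hz => ?_
  by_contra hzO
  obtain ⟨_, ⟨W, hW, rfl⟩, hzW, -⟩ :=
    X.isBasis_affineOpens.exists_subset_of_mem_open (Set.mem_univ (π z)) isOpen_univ
  let D : T.Opens := π ⁻¹ᵁ W
  have hD : IsAffineOpen D := hW.preimage π
  haveI : IsAffine (D : Scheme.{u}) := hD
  haveI : IsNoetherianRing Γ((D : Scheme.{u}), ⊤) :=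
    IsLocallyNoetherian.component_noetherian (X := (D : Scheme.{u})) ⟨⊤, isAffineOpen_top _⟩
  let P := (Scheme.Modules.pushforward j).obj K
  haveI : P.IsQuasicoherent := QCohMod.isQCoh_pushforward _ _
  let M := P.restrict D.ι
  haveI : M.IsQuasicoherent := inferInstanceAs (P.restrict D.ι).IsQuasicoherent
  let U : (D : Scheme.{u}).Opens := D.ι ⁻¹ᵁ j.opensRange
  have hpre : D.ι ''ᵁ U = j ''ᵁ (j ⁻¹ᵁ D) := by
    rw [Scheme.Hom.image_preimage_eq_opensRange_inf, Scheme.Hom.image_preimage_eq_opensRange_inf,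
      Scheme.Opens.opensRange_ι, inf_comm]
  have hjD : j ⁻¹ᵁ D = f ⁻¹ᵁ W := by rw [← hjπ]; rfl
  -- finiteness of the global sections
  haveI hfinP : Module.Finite Γ(X, W) Γ((Coh.push f).obj K, W) := by
    haveI := hpush.1
    exact QCohMod.finite_sections _ hpush.2 hW
  have hfin : Module.Finite Γ((D : Scheme.{u}), ⊤) Γ(M, ⊤) := by
    have htop : D.ι ''ᵁ ⊤ = D := by rw [Scheme.Hom.image_top_eq_opensRange, Scheme.Opens.opensRange_ι]
    have hle : j ⁻¹ᵁ (D.ι ''ᵁ ⊤) ≤ f ⁻¹ᵁ W := le_of_eq (by rw [htop, hjD])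
    obtain ⟨s, hs⟩ := hfinP.fg_top
    classical
    let r : Γ((Coh.push f).obj K, W) → Γ(M, ⊤) := fun t => QCohMod.res K hle t
    have hrb : Function.Bijective r := bijective_res_of_eq K hle (by rw [htop, hjD])
    have key : ∀ (b : Γ(X, W)) (t : Γ((Coh.push f).obj K, W)),
        ∃ a : Γ((D : Scheme.{u}), ⊤), r (b • t) = a • r t := by
      intro b t
      refine ⟨(show Γ((D : Scheme.{u}), ⊤) from QCohMod.resFun T (le_of_eq htop) (π.app W b)), ?_⟩
      subst hjπ
      change QCohMod.res K hle ((j ≫ π).app W b • (show Γ(K, (j ≫ π) ⁻¹ᵁ W) from t)) = _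
      rw [QCohMod.res_smul]
      refine congrArg (fun w : Γ(V, j ⁻¹ᵁ (D.ι ''ᵁ ⊤)) => w • (show Γ(K, j ⁻¹ᵁ (D.ι ''ᵁ ⊤)) from r t)) ?_
      change _ = j.app (D.ι ''ᵁ ⊤) ((D.ι.appIso ⊤).inv
        (show Γ((D : Scheme.{u}), ⊤) from QCohMod.resFun T (le_of_eq htop) (π.app W b)))
      rw [Scheme.Opens.ι_appIso]
      exact (ConcreteCategory.congr_hom (j.naturality (homOfLE (le_of_eq htop)).op) (π.app W b)).symm
    refine ⟨⟨s.image r, eq_top_iff.2 fun m hm => ?_⟩⟩
    clear hm
    obtain ⟨t, rfl⟩ := hrb.2 m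
    have ht : t ∈ Submodule.span Γ(X, W) (s : Set Γ((Coh.push f).obj K, W)) := hs ▸ trivial
    induction ht using Submodule.span_induction with
    | mem x hx => exact Submodule.subset_span (Finset.mem_coe.2 (Finset.mem_image_of_mem r hx))
    | zero => rw [show r 0 = 0 from map_zero _]; exact Submodule.zero_mem _
    | add x y _ _ hx hy => rw [show r (x + y) = r x + r y from map_add _ _ _]; exact Submodule.add_mem _ hx hy
    | smul b x _ hx =>
      obtain ⟨a, ha⟩ := key b x
      rw [ha]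
      exact Submodule.smul_mem _ a hx
  -- goodness
  have hgood : Good U M := by
    refine ⟨?_, fun q => ?_⟩
    · refine bijective_res_of_eq K (j.preimage_mono (D.ι.image_mono le_top)) ?_
      rw [hpre, Scheme.Hom.preimage_image_eq, Scheme.Hom.image_top_eq_opensRange, Scheme.Opens.opensRange_ι]
    · rw [CohBase.hVanish_restrict_iff D.ι P (q + 1) U, hpre, ← CohBase.hVanish_restrict_iff j P (q + 1)]
      refine hVanish_of_iso ((asIso (Scheme.Modules.restrictAdjunction j).counit).app K).symm _ _ ?_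
      rw [hjD]
      obtain ⟨e⟩ := CohBase.nonempty_equiv_HHon K (f ⁻¹ᵁ W) (q + 1)
      obtain ⟨e'⟩ := CohBase.exists_Rpush_linEquiv (f := f) (M := K) (p := q + 1) hW
      haveI : Subsingleton Γ((Coh.Rpush f (q + 1)).obj K, W) :=
        subsingleton_of_forall_eq 0 fun a => ConcreteCategory.congr_hom
          (congrArg (fun φ => Scheme.Modules.Hom.app φ W)
            ((hvan (q + 1) (Nat.succ_pos q)).eq_of_src (𝟙 _) 0)) a
      haveI h' : Subsingleton (Sheaf.H (abSheaf (K.restrict (f ⁻¹ᵁ W).ι)) (q + 1) : Type u) :=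
        @Equiv.subsingleton _ _ e'.symm.toEquiv this
      exact @Equiv.subsingleton _ _ e.symm.toEquiv h'
  let z' : (D : Scheme.{u}) := ⟨z, hzW⟩
  have hns := hgood.notMem_support U M z' fun h => hzO h
  rw [Module.mem_support_iff_of_finite, SetLike.not_le_iff_exists] at hns
  obtain ⟨s, hsann, hsz⟩ := hns
  have hzs : z' ∈ (D : Scheme.{u}).basicOpen s := (notMem_pt_iff z' s).1 hsz
  -- meet the open set
  obtain ⟨x, hxs, v, hvx⟩ := mem_closure_iff.1 hz (D.ι ''ᵁ (D : Scheme.{u}).basicOpen s : T.Opens)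
    (D.ι ''ᵁ (D : Scheme.{u}).basicOpen s).2 ⟨z', hzs, rfl⟩
  refine (show v ∈ CohB1.support K by rw [hsupp]; trivial) (subsingleton_of_forall_eq 0 fun g => ?_)
  obtain ⟨O, hvO, t, rfl⟩ := TopCat.Presheaf.exists_germ_eq K.presheaf g
  obtain ⟨x', hx's, hx'⟩ := hxs
  have hxO : x' ∈ D.ι ⁻¹ᵁ (j ''ᵁ O) ⊓ (D : Scheme.{u}).basicOpen s :=
    ⟨⟨v, hvO, hvx.trans hx'.symm⟩, hx's⟩
  obtain ⟨g, hgle, hxg⟩ := (isAffineOpen_top (D : Scheme.{u})).exists_basicOpen_le
    (V := D.ι ⁻¹ᵁ (j ''ᵁ O) ⊓ (D : Scheme.{u}).basicOpen s) ⟨x', hxO⟩ trivial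
  let B := (D : Scheme.{u}).basicOpen g
  have hle : j ⁻¹ᵁ (D.ι ''ᵁ B) ≤ O := by
    refine (j.preimage_mono (D.ι.image_mono (hgle.trans inf_le_left))).trans ?_
    refine (j.preimage_mono (le_of_eq (Scheme.Hom.image_preimage_eq_opensRange_inf _ _))).trans ?_
    exact (j.preimage_mono inf_le_right).trans (le_of_eq (j.preimage_image_eq O))
  have hzero : ∀ y : Γ(M, B), y = 0 := fun y => by
    obtain ⟨n, m, hm⟩ := QCohMod.exists_pow_smul_eq_res M (isAffineOpen_top _) g y
    have hu : IsUnit (QCohMod.resFun (D : Scheme.{u}) ((D : Scheme.{u}).basicOpen_le g) s) := by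
      have := ((D : Scheme.{u}).toRingedSpace.isUnit_res_basicOpen s).map
        (QCohMod.resFun (D : Scheme.{u}) (hgle.trans inf_le_right))
      exact (QCohMod.resFun_resFun ((D : Scheme.{u}).basicOpen_le s) (hgle.trans inf_le_right) s) ▸ this
    have h0 : QCohMod.res M ((D : Scheme.{u}).basicOpen_le g) m = 0 := hu.smul_left_cancel.1 (by
      rw [← QCohMod.res_smul, Module.mem_annihilator.1 hsann m, map_zero, smul_zero])
    rw [h0] at hm
    have hug : IsUnit (QCohMod.resFun (D : Scheme.{u}) ((D : Scheme.{u}).basicOpen_le g) g) :=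
      (D : Scheme.{u}).toRingedSpace.isUnit_res_basicOpen g
    exact (hug.pow n).smul_left_cancel.1 (hm.symm.trans (smul_zero _).symm)
  have hvB : v ∈ j ⁻¹ᵁ (D.ι ''ᵁ B) := ⟨x', hxg, hx'.trans hvx.symm⟩
  rw [← TopCat.Presheaf.germ_res_apply K.presheaf (homOfLE hle) v hvB t]
  refine (congrArg (K.presheaf.germ _ v hvB) ?_).trans (map_zero _)
  exact hzero (show Γ(M, B) from QCohMod.res K hle t)

end Groth.QFAcyclic
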